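import Mathlib

/-!
# Closed points avoiding countably many closed subsets over an uncountable field
-/

set_option autoImplicit false
set_option linter.all false
universe u
open CategoryTheory AlgebraicGeometry

namespace UncLib

open scoped Cardinal

theorem isAlgebraic_of_rank_le {k K : Type u} [Field k] [Uncountable k] [Field K] [Algebra k K]
    (h : Module.rank k K ≤ ℵ₀) : Algebra.IsAlgebraic k K := by
  refine ⟨fun t => ?_⟩
  by_contra ht
  have h1 := (Transcendental.linearIndependent_sub_inv (F := k) (x := t) ht).cardinal_le_rank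
  exact absurd (h1.trans h) (not_le.2 (Cardinal.aleph0_lt_mk (α := k)))

/-- In a countably generated domain over an uncountable field, some maximal ideal avoids any given
countable family of nonzero elements. -/
theorem exists_maximal {k : Type u} [Field k] [Uncountable k] {B : Type u} [CommRing B] [IsDomain B]
    [Algebra k B] [Algebra.FiniteType k B] (f : ℕ → B) (hf : ∀ n, f n ≠ 0) :
    ∃ m : Ideal B, m.IsMaximal ∧ ∀ n, f n ∉ m := by
  classical
  let M := Submonoid.closure (Set.range f)
  have hM : M ≤ nonZeroDivisors B :=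
    Submonoid.closure_le.2 (by rintro _ ⟨n, rfl⟩; exact mem_nonZeroDivisors_of_ne_zero (hf n))
  let S := Localization M
  haveI : Nontrivial S := (IsLocalization.injective S hM).nontrivial
  obtain ⟨s, hs⟩ := Algebra.FiniteType.out (R := k) (A := B)
  obtain ⟨m, hm⟩ := Ideal.exists_maximal S
  haveI := hm
  letI := Ideal.Quotient.field m
  let π : S →ₐ[k] S ⧸ m := Ideal.Quotient.mkₐ k m
  let g : B →ₐ[k] S ⧸ m := π.comp (IsScalarTower.toAlgHom k B S)
  let T : Set (S ⧸ m) := g '' s ∪ Set.range (fun n => (g (f n))⁻¹)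
  have hT : T.Countable := ((s.finite_toSet.image _).countable).union (Set.countable_range _)
  have hgen : ∀ z : S ⧸ m, z ∈ Algebra.adjoin k T := by
    intro z
    obtain ⟨y, rfl⟩ := Ideal.Quotient.mk_surjective z
    obtain ⟨b, d, rfl⟩ := IsLocalization.exists_mk'_eq M y
    have hB : ∀ b : B, g b ∈ Algebra.adjoin k T := by
      intro b
      have : g b ∈ (Algebra.adjoin k (s : Set B)).map g := ⟨b, by rw [hs]; trivial, rfl⟩
      rw [AlgHom.map_adjoin] at this
      exact Algebra.adjoin_mono Set.subset_union_left this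
    have hne : ∀ e ∈ M, g e ≠ 0 ∧ (g e)⁻¹ ∈ Algebra.adjoin k T := by
      intro e he
      refine ⟨fun h0 => ?_, ?_⟩
      · have hu : IsUnit (g e) := (IsLocalization.map_units S ⟨e, he⟩).map π
        rw [h0] at hu
        exact not_isUnit_zero hu
      · induction he using Submonoid.closure_induction with
        | mem x hx =>
          obtain ⟨n, rfl⟩ := hx
          exact Algebra.subset_adjoin (Or.inr ⟨n, rfl⟩)
        | one => simp
        | mul x y _ _ hx hy => rw [map_mul, mul_inv]; exact mul_mem hx hy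
    have key : Ideal.Quotient.mk m (IsLocalization.mk' S b d) = g b * (g (d : B))⁻¹ := by
      rw [eq_mul_inv_iff_mul_eq₀ (hne d d.2).1]
      show π _ * π (algebraMap B S d) = π (algebraMap B S b)
      rw [← map_mul, IsLocalization.mk'_spec]
    rw [key]
    exact mul_mem (hB b) (hne d d.2).2
  have hr : Module.rank k (S ⧸ m) ≤ ℵ₀ := by
    have hsp : Submodule.span k (Submonoid.closure T : Set (S ⧸ m)) = ⊤ := by
      rw [← Algebra.adjoin_eq_span]; exact eq_top_iff.2 fun z _ => hgen z
    rw [← rank_top, ← hsp]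
    refine (rank_span_le _).trans ?_
    haveI := hT.to_subtype
    rw [Cardinal.le_aleph0_iff_set_countable, Submonoid.closure_eq_mrange]
    exact Set.countable_range _
  haveI := isAlgebraic_of_rank_le hr
  refine ⟨RingHom.ker g.toRingHom, ?_, fun n hn => ?_⟩
  · have hint : g.toRingHom.IsIntegral := by
      intro x
      obtain ⟨q, hq, hx⟩ := Algebra.IsIntegral.isIntegral (R := k) x
      refine ⟨q.map (algebraMap k B), hq.map _, ?_⟩
      rw [Polynomial.eval₂_map]
      rw [AlgHom.toRingHom_eq_coe, g.comp_algebraMap]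
      exact hx
    haveI : (⊥ : Ideal (S ⧸ m)).IsMaximal := Ideal.bot_isMaximal
    rw [RingHom.ker_eq_comap_bot]
    exact Ideal.isMaximal_comap_of_isIntegral_of_isMaximal' g.toRingHom hint ⊥
  · have hu : IsUnit (g (f n)) :=
      (IsLocalization.map_units S ⟨f n, Submonoid.subset_closure (s := Set.range f) ⟨n, rfl⟩⟩).map π
    rw [RingHom.mem_ker] at hn
    change g (f n) = 0 at hn
    rw [hn] at hu
    exact not_isUnit_zero hu

theorem exists_closedPoint (k : Type u) [Field k] [Uncountable k] (X : Scheme.{u})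
    (sX : X ⟶ Spec (CommRingCat.of k)) [IrreducibleSpace X] [LocallyOfFiniteType sX]
    (Z : ℕ → TopologicalSpace.Closeds X) (hZ : ∀ n, (Z n : Set X) ≠ Set.univ)
    (O : Set X) (hO : IsOpen O) (hne : O.Nonempty) :
    ∃ x ∈ O, IsClosed ({x} : Set X) ∧ ∀ n, x ∉ Z n := by
  haveI : JacobsonSpace X := LocallyOfFiniteType.jacobsonSpace sX
  obtain ⟨x₀, hx₀⟩ := hne
  obtain ⟨_, ⟨W, hW, rfl⟩, hxW, hWO⟩ := X.isBasis_affineOpens.exists_subset_of_mem_open hx₀ hO
  obtain ⟨φ, hφ⟩ : ∃ φ, Spec.map φ = hW.fromSpec ≫ sX := ⟨_, Spec.map_preimage _⟩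
  letI alg : Algebra k Γ(X, W) := φ.hom.toAlgebra
  haveI : Algebra.FiniteType k Γ(X, W) := by
    have : LocallyOfFiniteType (Spec.map φ) := by rw [hφ]; infer_instance
    exact (HasRingHomProperty.Spec_iff (P := @LocallyOfFiniteType)).mp this
  obtain ⟨η, hη⟩ : ∃ η : X, IsGenericPoint η Set.univ := ⟨genericPoint X, genericPoint_spec X⟩
  have hηW : η ∈ (W : Set X) := (hη.mem_open_set_iff W.2).2 ⟨x₀, ⟨trivial, hxW⟩⟩
  rw [← hW.range_fromSpec] at hηW
  obtain ⟨p, hp⟩ := hηW
  have hnot : ∀ n, η ∉ (Z n : Set X) := fun n h => hZ n (Set.univ_subset_iff.1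
    (hη.def ▸ closure_minimal (Set.singleton_subset_iff.2 h) (Z n).isClosed))
  have : ∀ n, ∃ f : Γ(X, W), f ∉ p.asIdeal ∧
      ∀ q : Spec Γ(X, W), f ∉ q.asIdeal → hW.fromSpec.base q ∉ Z n := by
    intro n
    have hpn : p ∈ hW.fromSpec.base ⁻¹' (Z n : Set X)ᶜ := by
      show hW.fromSpec.base p ∉ Z n
      rw [hp]; exact hnot n
    obtain ⟨_, ⟨f, rfl⟩, hpf, hf⟩ :=
      PrimeSpectrum.isTopologicalBasis_basic_opens.exists_subset_of_mem_open hpn
        ((Z n).isClosed.isOpen_compl.preimage hW.fromSpec.continuous)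
    exact ⟨f, hpf, fun q hq => hf hq⟩
  choose f hfp hfZ using this
  obtain ⟨m, hm, hfm⟩ := exists_maximal (k := k) (B := Γ(X, W) ⧸ p.asIdeal)
    (fun n => Ideal.Quotient.mk _ (f n)) (fun n h => hfp n (Ideal.Quotient.eq_zero_iff_mem.1 h))
  haveI := hm
  let q : PrimeSpectrum Γ(X, W) := ⟨m.comap (Ideal.Quotient.mk p.asIdeal), inferInstance⟩
  have hq : q.asIdeal.IsMaximal := Ideal.comap_isMaximal_of_surjective _ Ideal.Quotient.mk_surjective
  let q' : ↥(Spec Γ(X, W)) := q
  have hcl : IsClosed ({q'} : Set ↥(Spec Γ(X, W))) :=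
    (PrimeSpectrum.isClosed_singleton_iff_isMaximal q).2 hq
  refine ⟨hW.fromSpec.base q', hWO ?_, ?_, fun n => hfZ n q' (hfm n)⟩
  · show hW.fromSpec.base q' ∈ (W : Set X)
    rw [← hW.range_fromSpec]; exact ⟨q', rfl⟩
  · have h2 : q' ∈ hW.fromSpec.base ⁻¹' closedPoints X := by
      rw [hW.fromSpec.isOpenEmbedding.preimage_closedPoints]
      exact hcl
    exact h2

end UncLib
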